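import Groth.Agent.BivVan.Basic

/-! Chow groups of clopen decompositions. -/

set_option autoImplicit false
set_option linter.style.haveILetI false
set_option backward.isDefEq.respectTransparency false
set_option backward.isDefEq.respectTransparency.types false

universe u

open AlgebraicGeometry CategoryTheory Limits
open Groth.Agent.H23 Groth.Agent.H23.FlatShift Groth.Agent.H23.FlatClass Groth.Agent.BivVan

namespace Groth.Agent.BivGlue

theorem deltaCompat_of_comp {A B C : Scheme.{u}} (a : A ⟶ B) (b : B ⟶ C) [LocallyOfFiniteType a]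
    [LocallyOfFiniteType b] {δA : A → ℤ} {δB : B → ℤ} {δC : C → ℤ} (h : Cyc.DeltaCompat (a ≫ b) δA δC)
    (hb : Cyc.DeltaCompat b δB δC) : Cyc.DeltaCompat a δA δB := by
  rw [ChowDesc.deltaCompat_unique (a ≫ b) h
    (Bivar.deltaCompat_comp a b _ _ _ (ChowDesc.deltaCompat_rd a δB) hb)]
  exact ChowDesc.deltaCompat_rd a δB

theorem deltaCompat_open {U W : Scheme.{u}} (κ : U ⟶ W) [IsOpenImmersion κ] (δ : W → ℤ) :
    Cyc.DeltaCompat κ (fun z => δ (κ z)) δ := by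
  have h := ChowDesc.deltaCompat_rd κ δ
  have e : (fun z => δ (κ z) + (FibDim.rd κ z : ℤ)) = fun z => δ (κ z) := funext fun z => by
    rw [CycLib.rd_eq_zero_of_finite κ z
      (RingHom.Finite.of_surjective _ (residueFieldMap_surjective_of_isIso κ z)), Nat.cast_zero, add_zero]
  rwa [e] at h

theorem hasShift_open {U W : Scheme.{u}} (κ : U ⟶ W) [IsOpenImmersion κ] (δ : W → ℤ) :
    HasShift κ (fun z => δ (κ z)) δ 0 := fun _ _ => (add_zero _).symm

theorem isSetup_open {U W : Scheme.{u}} (κ : U ⟶ W) [IsOpenImmersion κ] {δ : W → ℤ} (hW : Cyc.IsSetup W δ) :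
    Cyc.IsSetup U (fun z => δ (κ z)) := by
  exact SetupLFT.isSetup κ hW (deltaCompat_open κ δ)

/-- Restriction to an open piece. -/
noncomputable def restr {U W : Scheme.{u}} (κ : U ⟶ W) [IsOpenImmersion κ] {δ : W → ℤ} (hW : Cyc.IsSetup W δ)
    (k : ℤ) : ChowOps.CH W δ k →+ ChowOps.CH U (fun z => δ (κ z)) k :=
  pullCH (hasShift_open κ δ) hW (isSetup_open κ hW) k k (add_zero k).symm

theorem restr_cl {U W : Scheme.{u}} (κ : U ⟶ W) [IsOpenImmersion κ] {δ : W → ℤ} (hW : Cyc.IsSetup W δ)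
    {k : ℤ} {α : AlgebraicCycle W ℤ} (hα : α ∈ Cyc.Zk W δ k) {β : AlgebraicCycle U ℤ}
    (he : ∀ z, β z = α (κ z)) (hβ : β ∈ Cyc.Zk U (fun z => δ (κ z)) k) :
    restr κ hW k (ChowOps.cl α hα) = ChowOps.cl β hβ :=
  pullCH_cl _ _ _ _ hα (funext fun z => (he z).trans
    (pullFun_openImmersion κ (deltaCompat_open κ δ) ⇑α z).symm) hβ

variable {W : Scheme.{u}} {δ : W → ℤ} {J : Type u} {U : J → Scheme.{u}} (κ : ∀ j, U j ⟶ W)
  [∀ j, IsOpenImmersion (κ j)]

theorem eq_zero_of_restr (hW : Cyc.IsSetup W δ)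
    (hdisj : ∀ j j', j ≠ j' → Disjoint (Set.range (κ j)) (Set.range (κ j')))
    (hcov : ∀ x, ∃ j, x ∈ Set.range (κ j)) {k : ℤ} (y : ChowOps.CH W δ k)
    (h : ∀ j, restr (κ j) hW k y = 0) : y = 0 := by
  classical
  haveI := hW.1
  obtain ⟨γ, hγ, rfl⟩ := Bivar.exists_rep y
  have huniq : ∀ j j' x, x ∈ Set.range (κ j) → x ∈ Set.range (κ j') → j = j' := fun j j' x h1 h2 =>
    by_contra fun hne => (hdisj j j' hne).ne_of_mem h1 h2 rfl
  have key : ∀ j, RatOn.ZeroOn δ k (Set.range (κ j)) fun x => if x ∈ Set.range (κ j) then γ x else 0 := by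
    intro j
    haveI : IsClosedImmersion (κ j) := by
      refine IsClosedImmersion.of_isPreimmersion (κ j) ⟨?_⟩
      have he : (Set.range (κ j))ᶜ = ⋃ i ∈ {i | i ≠ j}, Set.range (κ i) := by
        ext x
        simp only [Set.mem_compl_iff, Set.mem_iUnion, Set.mem_setOf_eq, exists_prop]
        refine ⟨fun hx => ?_, fun ⟨i, hne, hi⟩ hj => hne (huniq i j x hi hj)⟩
        obtain ⟨i, hi⟩ := hcov x
        exact ⟨i, fun e => hx (e ▸ hi), hi⟩
      rw [he]
      exact isOpen_biUnion fun i _ => (κ i).isOpenEmbedding.isOpen_range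
    have hU := isSetup_open (κ j) hW
    haveI := hU.1
    let γ' := pullCycle (hasShift_open (κ j) δ) hU.2.2 γ
    have he : ∀ z, γ' z = γ (κ j z) := fun z => pullFun_openImmersion (κ j) (deltaCompat_open (κ j) δ) ⇑γ z
    have hγ' : γ' ∈ Cyc.Zk (U j) (fun z => δ (κ j z)) k := pullCycle_mem _ hU.2.2 hγ (add_zero k).symm
    have h0 := h j
    rw [restr_cl (κ j) hW hγ he hγ'] at h0
    have hz : RatOn.ZeroOn (fun z => δ (κ j z)) k Set.univ (fun z => γ (κ j z)) :=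
      RatOn.congr (RatOn.of_ratEquivZero (ratEquivZero_of_cl_eq_zero hU hγ' h0)) fun z => (he z).symm
    refine RatOn.mono (RatOn.push (κ j) hz (fun w => ?_) fun x hx => if_neg hx) (Set.image_subset_range _ _)
    rw [if_pos ⟨w, rfl⟩]
  refine (ChowDesc.cl_eq_of_ratEquiv hγ (ChowOps.zk W δ k).zero_mem ?_).trans Bivar.cl_zero
  show Cyc.RatEquivZero δ k (γ - 0)
  rw [sub_zero]
  refine RatOn.ratEquivZero (T := Set.univ) (RatOn.congr (RatOn.sum hW.2.2 (fun _ => (1 : ℤ)) _ _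
    (fun j => Set.subset_univ _) key fun x => ?_) fun x => ?_)
  · obtain ⟨j, hj⟩ := hcov x
    refine ⟨_, (κ j).isOpenEmbedding.isOpen_range, hj, (Set.finite_singleton j).subset ?_⟩
    rintro i ⟨⟨z, hz, hz'⟩, -⟩
    exact huniq i j z hz hz'
  · obtain ⟨j, hj⟩ := hcov x
    rw [finsum_eq_single _ j fun i hne => by rw [if_neg fun h => hne (huniq i j x h hj), mul_zero],
      if_pos hj, one_mul]

theorem restrAll_bijective (hW : Cyc.IsSetup W δ)
    (hdisj : ∀ j j', j ≠ j' → Disjoint (Set.range (κ j)) (Set.range (κ j')))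
    (hcov : ∀ x, ∃ j, x ∈ Set.range (κ j)) (k : ℤ) :
    Function.Bijective (AddMonoidHom.mk' (fun y => fun j => restr (κ j) hW k y)
      (fun a b => funext fun j => map_add (restr (κ j) hW k) a b)) := by
  refine ⟨(injective_iff_map_eq_zero _).2 fun y hy =>
    eq_zero_of_restr κ hW hdisj hcov y fun j => congrFun hy j, fun c => ?_⟩
  have huniq : ∀ j j' x, x ∈ Set.range (κ j) → x ∈ Set.range (κ j') → j = j' := fun j j' x h1 h2 =>
    by_contra fun hne => (hdisj j j' hne).ne_of_mem h1 h2 rfl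
  choose γ hγ hc using fun j => Bivar.exists_rep (c j)
  choose idx hidx using hcov
  choose pre hpre using hidx
  have hev : ∀ j z, γ (idx (κ j z)) (pre (κ j z)) = γ j z := by
    intro j z
    have e : idx (κ j z) = j := huniq _ _ (κ j z) ⟨_, hpre _⟩ ⟨z, rfl⟩
    have : ∀ i (w : U i), i = j → κ i w = κ j z → γ i w = γ j z := by
      rintro i w rfl hw
      rw [(κ i).isOpenEmbedding.injective hw]
    exact this _ _ e (hpre _)
  let β : AlgebraicCycle W ℤ :=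
    { toFun := fun x => γ (idx x) (pre x)
      supportWithinDomain' := fun _ _ => trivial
      supportLocallyFiniteWithinDomain' := fun x _ => by
        obtain ⟨V, hV, hfin⟩ := GysinLib.locFin (γ (idx x)) (pre x)
        refine ⟨κ (idx x) '' V, ?_, (hfin.image (κ (idx x))).subset ?_⟩
        · have := (κ (idx x)).isOpenEmbedding.isOpenMap.image_mem_nhds hV
          rwa [hpre x] at this
        · rintro y ⟨⟨z, hz, rfl⟩, hy⟩
          exact ⟨z, ⟨hz, fun h0 => hy ((hev _ z).trans h0)⟩, rfl⟩ }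
  have hβ : β ∈ Cyc.Zk W δ k := fun x hx =>
    hγ (idx x) (pre x) (by show δ (κ (idx x) (pre x)) ≠ k; rw [hpre]; exact hx)
  refine ⟨ChowOps.cl β hβ, funext fun j => ?_⟩
  simp only [AddMonoidHom.mk'_apply]
  rw [restr_cl (κ j) hW hβ (fun z => (hev j z).symm) (hγ j)]
  exact hc j

/-- The Chow group of a clopen decomposition. -/
noncomputable def restrAll (hW : Cyc.IsSetup W δ)
    (hdisj : ∀ j j', j ≠ j' → Disjoint (Set.range (κ j)) (Set.range (κ j')))
    (hcov : ∀ x, ∃ j, x ∈ Set.range (κ j)) (k : ℤ) :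
    ChowOps.CH W δ k ≃+ ∀ j, ChowOps.CH (U j) (fun z => δ (κ j z)) k :=
  AddEquiv.ofBijective _ (restrAll_bijective κ hW hdisj hcov k)

omit [∀ j, IsOpenImmersion (κ j)]

/-- Restriction commutes with proper push-forward. -/
theorem restr_mapCH {U' U W' : Scheme.{u}} (κ' : U' ⟶ W') (κ : U ⟶ W) [IsOpenImmersion κ'] [IsOpenImmersion κ]
    {h : W' ⟶ W} [IsProper h] {h' : U' ⟶ U} [IsProper h'] (sq : IsPullback κ' h' h κ) {δ' : W' → ℤ}
    (hW' : Cyc.IsSetup W' δ') (hW : Cyc.IsSetup W δ) (hδ : Cyc.DeltaCompat h δ' δ)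
    (hδ' : Cyc.DeltaCompat h' (fun z => δ' (κ' z)) (fun z => δ (κ z))) {k : ℤ} (y : ChowOps.CH W' δ' k) :
    restr κ hW k (PushClass.mapCH h hW' hW hδ k y) =
      PushClass.mapCH h' (isSetup_open κ' hW') (isSetup_open κ hW) hδ' k (restr κ' hW' k y) := by
  obtain ⟨γ, hγ, rfl⟩ := Bivar.exists_rep y
  have hU' := isSetup_open κ' hW'
  have hU := isSetup_open κ hW
  haveI := hW'.1
  haveI := hW.1
  haveI := hU'.1
  haveI := hU.1
  let γ' := pullCycle (hasShift_open κ' δ') hU'.2.2 γ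
  rw [PushClass.mapCH_cl h hW' hW hδ hγ,
    restr_cl κ' hW' hγ (β := γ') (fun z => pullFun_openImmersion κ' (deltaCompat_open κ' δ') ⇑γ z)
      (pullCycle_mem _ hU'.2.2 hγ (add_zero k).symm), PushClass.mapCH_cl h' hU' hU hδ']
  exact pullCH_cl _ _ _ _ _ (map_pullFun_baseChange sq (hasShift_open κ δ) hU.2.2 hδ hδ' γ γ' rfl).symm _

/-- Composite flat pull-backs agree. -/
theorem pullCH_comm {A B B' C : Scheme.{u}} {a : A ⟶ B} {b : B ⟶ C} {a' : A ⟶ B'} {b' : B' ⟶ C}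
    [Flat a] [Flat b] [Flat a'] [Flat b'] (e : a ≫ b = a' ≫ b') {δA : A → ℤ} {δB : B → ℤ} {δB' : B' → ℤ}
    {δC : C → ℤ} {c₁ c₂ c₁' c₂' : ℤ} (h₁ : HasShift a δA δB c₁) (h₂ : HasShift b δB δC c₂)
    (h₁' : HasShift a' δA δB' c₁') (h₂' : HasShift b' δB' δC c₂') (hc : c₂ + c₁ = c₂' + c₁')
    (hA : Cyc.IsSetup A δA) (hB : Cyc.IsSetup B δB) (hB' : Cyc.IsSetup B' δB') (hC : Cyc.IsSetup C δC)
    {k lB lB' l : ℤ} (hlB : lB = k + c₂) (hl : l = lB + c₁) (hlB' : lB' = k + c₂') (hl' : l = lB' + c₁')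
    (y : ChowOps.CH C δC k) :
    pullCH h₁ hB hA lB l hl (pullCH h₂ hC hB k lB hlB y) =
      pullCH h₁' hB' hA lB' l hl' (pullCH h₂' hC hB' k lB' hlB' y) := by
  obtain ⟨γ, hγ, rfl⟩ := Bivar.exists_rep y
  haveI := hA.1
  haveI := hB.1
  haveI := hB'.1
  haveI := hC.1
  have m₁ := pullCycle_mem h₂ hB.2.2 hγ hlB
  have m₂ := pullCycle_mem h₂' hB'.2.2 hγ hlB'
  rw [pullCH_cl h₂ hC hB hlB hγ rfl m₁, pullCH_cl h₂' hC hB' hlB' hγ rfl m₂,
    pullCH_cl h₁ hB hA hl m₁ rfl (pullCycle_mem h₁ hA.2.2 m₁ hl)]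
  refine (pullCH_cl h₁' hB' hA hl' m₂ ?_ _).symm
  show Cyc.pullFun a δA δB c₁ (Cyc.pullFun b δB δC c₂ ⇑γ) = Cyc.pullFun a' δA δB' c₁' (Cyc.pullFun b' δB' δC c₂' ⇑γ)
  rw [pullFun_comp_of_le a b _ _ _ (fun x => h₁.le hA.2.2 x) (fun x => h₂.le hB.2.2 x),
    pullFun_comp_of_le a' b' _ _ _ (fun x => h₁'.le hA.2.2 x) (fun x => h₂'.le hB'.2.2 x), hc]
  simp only [e]

end Groth.Agent.BivGlue
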