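import Groth.Agent.BivGlue.Op

/-! Gysin compatibility of glued classes. -/

set_option autoImplicit false
set_option linter.style.haveILetI false
set_option backward.isDefEq.respectTransparency false
set_option backward.isDefEq.respectTransparency.types false
set_option maxHeartbeats 800000

universe u

open AlgebraicGeometry CategoryTheory Limits
open Groth.Agent Groth.Agent.H23 Groth.Agent.H23.FlatShift Groth.Agent.H23.FlatClass Groth.Agent.H23.RatSec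
  Groth.Agent.BivVan

namespace Groth.Agent.BivGlue

section

variable {W' W D' D : Scheme.{u}} {i : D ⟶ W} [IsClosedImmersion i] {jD : D' ⟶ W'} [IsClosedImmersion jD]
  {q : D' ⟶ D} {g : W' ⟶ W} {δ : W → ℤ} {L : W.Modules} {s : L.presheaf.obj (Opposite.op ⊤)}

/-- Restriction of a Gysin class to an open piece. -/
theorem restr_gysin [IsOpenImmersion g] [IsOpenImmersion q] (h : IsPullback jD q g i) (hW : Cyc.IsSetup W δ)
    {δD : D → ℤ} (hδD : δD = fun z => δ (i z)) (hDs : Cyc.IsSetup D δD)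
    (hL : PicF.IsInvertible L) (hD : Cyc.IsZeroSchemeOf i L s) {k : ℤ}
    {α : AlgebraicCycle W ℤ} (hα : α ∈ Cyc.Zk W δ k) {w : (ξ : W) → Cyc.secFibre L ξ} (hw : ∀ ξ, w ξ ≠ 0)
    {γ : AlgebraicCycle D ℤ} (hγe : ∀ z, γ z = Cyc.c1CapFun δ L ⇑α (Cyc.gysinChoice L s w) (i z))
    (hγ : γ ∈ Cyc.Zk D δD (k - 1)) {α' : AlgebraicCycle W' ℤ} (hα' : ∀ z, α' z = α (g z))
    {w' : (ξ : W') → Cyc.secFibre ((Scheme.Modules.pullback g).obj L) ξ} (hw' : ∀ ξ, w' ξ ≠ 0)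
    {γ' : AlgebraicCycle D' ℤ}
    (hγe' : ∀ z, γ' z = Cyc.c1CapFun (fun z => δ (g z)) ((Scheme.Modules.pullback g).obj L) ⇑α'
      (Cyc.gysinChoice ((Scheme.Modules.pullback g).obj L) (KFlatLib.pb g (U := ⊤) s) w') (jD z))
    (hγ' : γ' ∈ Cyc.Zk D' (fun z => δD (q z)) (k - 1)) :
    restr q hDs (k - 1) (ChowOps.cl γ hγ) = ChowOps.cl γ' hγ' := by
  have hW' := isSetup_open g hW
  have hD' := isSetup_open q hDs
  haveI := hW.1
  haveI := hW'.1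
  haveI := hDs.1
  haveI := hD'.1
  let ζ := pullCycle (hasShift_open q δD) hD'.2.2 γ
  have hζ : ζ ∈ Cyc.Zk D' (fun z => δD (q z)) (k - 1) :=
    pullCycle_mem _ hD'.2.2 hγ (add_zero _).symm
  rw [restr_cl q hDs hγ (β := ζ) (fun z => pullFun_openImmersion q (deltaCompat_open q δD) ⇑γ z) hζ]
  refine (ChowDesc.cl_eq_of_ratEquiv hγ' hζ ?_).symm
  have hcomm : ∀ z, g (jD z) = i (q z) := fun z => by
    rw [← Scheme.Hom.comp_apply, h.w, Scheme.Hom.comp_apply]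
  have e : (fun z => δ (g (jD z))) = fun z => δD (q z) := funext fun z => by rw [hδD, hcomm]
  have hfun : ⇑α' = Cyc.pullFun g (fun z => δ (g z)) δ 0 ⇑α := funext fun z =>
    (hα' z).trans (pullFun_openImmersion g (deltaCompat_open g δ) ⇑α z).symm
  have key := GysinSq.ratEquiv_gysin_pull (j := jD) (q := q) (f := g) (i := i) h (hasShift_open g δ) hW.2.2
    hW'.2.2 hL hD (GysinSq.isZeroSchemeOf_pb h hL hD) (k := k - 1) α (fun x hx => hα x (by omega)) hw hw'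
    (ζ₁ := γ') (ζ₂ := ζ) (fun z => by rw [hγe', hfun])
    (by
      show Cyc.pullFun q (fun z => δD (q z)) δD 0 ⇑γ = _
      rw [show (⇑γ) = _ from funext hγe, e]
      rw [hδD])
  rw [add_zero] at key
  generalize ζ = C at key ⊢
  rw [← e]
  exact key

/-- Two equations of the inverse image give the same Gysin class. -/
theorem gysin_eq (h : IsPullback jD q g i) [IsLocallyNoetherian W] {δ' : W' → ℤ} (hW' : Cyc.IsSetup W' δ')
    (hL : PicF.IsInvertible L)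
    (hD : Cyc.IsZeroSchemeOf i L s) {δD' : D' → ℤ} (hδD : δD' = fun z => δ' (jD z)) {k : ℤ}
    {α : AlgebraicCycle W' ℤ} (hα : α ∈ Cyc.Zk W' δ' k)
    {N : W'.Modules} (hN : PicF.IsInvertible N) (e : (Scheme.Modules.pullback g).obj L ≅ N)
    {τ : N.presheaf.obj (Opposite.op ⊤)} (hτ : Cyc.IsZeroSchemeOf jD N τ)
    {w : (ξ : W') → Cyc.secFibre N ξ} (hw : ∀ ξ, w ξ ≠ 0) {γ : AlgebraicCycle D' ℤ}
    (hγe : ∀ z, γ z = Cyc.c1CapFun δ' N ⇑α (Cyc.gysinChoice N τ w) (jD z))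
    (hγ : γ ∈ Cyc.Zk D' δD' (k - 1))
    {v : (ξ : W') → Cyc.secFibre ((Scheme.Modules.pullback g).obj L) ξ} (hv : ∀ ξ, v ξ ≠ 0)
    {γ' : AlgebraicCycle D' ℤ}
    (hγe' : ∀ z, γ' z = Cyc.c1CapFun δ' ((Scheme.Modules.pullback g).obj L) ⇑α
      (Cyc.gysinChoice ((Scheme.Modules.pullback g).obj L) (KFlatLib.pb g (U := ⊤) s) v) (jD z))
    (hγ' : γ' ∈ Cyc.Zk D' δD' (k - 1)) : ChowOps.cl γ hγ = ChowOps.cl γ' hγ' := by
  haveI := hW'.1
  have hd := hW'.2.2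
  have hLt := PicClLib.isInvertible_pullback g hL
  refine (ChowDesc.cl_eq_of_ratEquiv hγ' hγ ?_).symm
  have hτ' := isZeroSchemeOf_mapIso e.symm hτ
  have hw' := mapSec_ne_zero e.symm hw
  have hgw := GysinLib.gysinChoice_ne_zero (L := N) τ hw
  have key := GysinLib.ratEquiv_restrict jD hLt hd (k := k - 1) α (fun x hx => hα x (by omega))
    (GysinLib.gysinChoice_ne_zero _ hv) (GysinLib.gysinChoice_ne_zero _ hw')
    (fun ξ hξ => GysinSq.secDivFun_gysinChoice_indep h hd hL hD (GysinSq.isZeroSchemeOf_pb h hL hD) hτ' _ _ hξ)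
    (γ := γ') hγe' (γ' := γ)
    (fun z => by
      rw [hγe z, ← c1CapFun_mapSec e.symm hN hLt hd ⇑α hgw]
      exact congrFun (congrArg (Cyc.c1CapFun δ' _ ⇑α) (funext fun ξ => mapSec_gysinChoice e.symm τ w ξ)) _)
  rw [hδD]
  exact key

end

variable {X Y : Scheme.{u}} {f : X ⟶ Y} {δX : X → ℤ} {δY : Y → ℤ} {p : ℤ} {J : Type u}
  {s : J → Bivar.Sq f δX δY} [∀ j, IsOpenImmersion (s j).g]
  (hX : Cyc.IsSetup X δX) (hY : Cyc.IsSetup Y δY)
  (hdisj : ∀ j j' : J, j ≠ j' → Disjoint (Set.range (s j).g.base) (Set.range (s j').g.base))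
  (hcov : ∀ y : Y, ∃ j, y ∈ Set.range (s j).g.base)
  (d : ∀ j, Bivar.Cl p (s j).f' (s j).δX' (s j).δY') {T : Bivar.Sq f δX δY}

theorem gysin (S : Bivar.Sq f δX δY) (i : T.Y' ⟶ S.Y') [IsClosedImmersion i] (jj : T.X' ⟶ S.X')
    [IsClosedImmersion jj] (w₁ : i ≫ S.g = T.g) (w₂ : jj ≫ S.f' = T.f' ≫ i) (w₃ : jj ≫ S.g' = T.g')
    (L : S.Y'.Modules) (hL : PicF.IsInvertible L) (σ : L.presheaf.obj (Opposite.op ⊤))
    (hσ : Cyc.IsZeroSchemeOf i L σ)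
    (τ : ((Scheme.Modules.pullback S.f').obj L).presheaf.obj (Opposite.op ⊤))
    (hτ : Cyc.IsZeroSchemeOf jj ((Scheme.Modules.pullback S.f').obj L) τ) (k : ℤ) :
    Bivar.GysinOK S.δY' T.δY' S.δX' T.δX' i L σ jj ((Scheme.Modules.pullback S.f').obj L) τ
      (op hX hY hdisj hcov d S k) (op hX hY hdisj hcov d T (k - 1)) := by
  intro α hα
  obtain ⟨β, hβ, hb⟩ := Bivar.exists_rep (op hX hY hdisj hcov d S k (ChowOps.cl α hα))
  refine ⟨β, hβ, hb.symm, fun w hw γ hγe hγ w' hw' => ?_⟩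
  have hSY := isSetup_Y' hY S
  have hTY := isSetup_Y' hY T
  have hSX := isSetup_X' hX S
  have hTX := isSetup_X' hX T
  haveI := hSY.1
  haveI := hSX.1
  have hdi := delta_closedImmersionY i w₁
  have hdj := delta_closedImmersionX jj w₃
  have hN₀ := PicClLib.isInvertible_pullback S.f' hL
  let ζ := GysinLib.gysinCycle hN₀ hSX.2.2 jj τ β hw'
  have hζ' : ζ ∈ Cyc.Zk T.X' T.δX' (k - 1 - p) := by
    rw [show k - 1 - p = k - p - 1 by ring]
    exact GysinClass.gysinCycle_mem hN₀ hSX.2.2 hdj hβ hw'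
  refine ⟨ζ, hζ', fun _ => rfl, ?_⟩
  refine ext_restr hX hdisj hcov T (k - 1 - p) _ _ fun j => ?_
  let sj := pc (s j) S
  let tj := pc (s j) T
  let iY : tj.Y' ⟶ sj.Y' := mY i w₁
  let jX : tj.X' ⟶ sj.X' := mX i jj w₁ w₂
  haveI : IsClosedImmersion iY := MorphismProperty.of_isPullback (sqY i w₁) ‹_›
  haveI : IsClosedImmersion jX := MorphismProperty.of_isPullback (sqX i jj w₁ w₂) ‹_›
  have hu₁ : iY ≫ sj.g = tj.g := mY_g i w₁
  have hu₂ : jX ≫ sj.f' = tj.f' ≫ iY := mX_f i jj w₁ w₂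
  have hu₃ : jX ≫ sj.g' = tj.g' := mX_g i jj w₁ w₂ w₃
  have hSYj := isSetup_open (κ (s j) S) hSY
  have hSXj := isSetup_open (κ' (s j) S) hSX
  haveI := hSYj.1
  haveI := hSXj.1
  let Lj := (Scheme.Modules.pullback (κ (s j) S)).obj L
  have hLj : PicF.IsInvertible Lj := PicClLib.isInvertible_pullback (κ (s j) S) hL
  let σj := KFlatLib.pb (κ (s j) S) (U := ⊤) σ
  have hσj : Cyc.IsZeroSchemeOf iY Lj σj := GysinSq.isZeroSchemeOf_pb (sqY i w₁).flip hL hσ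
  have hNj : PicF.IsInvertible ((Scheme.Modules.pullback sj.f').obj Lj) := PicClLib.isInvertible_pullback sj.f' hLj
  have sqJ : IsPullback jX tj.f' sj.f' iY :=
    (isPullback_hom (s := sj) (t := tj) iY jX hu₁ hu₂ hu₃).flip
  let τj := KFlatLib.pb sj.f' (U := ⊤) σj
  have hτj : Cyc.IsZeroSchemeOf jX ((Scheme.Modules.pullback sj.f').obj Lj) τj :=
    GysinSq.isZeroSchemeOf_pb sqJ hLj hσj
  have hdiY := delta_closedImmersionY (s := sj) (t := tj) iY hu₁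
  have hdjX := delta_closedImmersionX (s := sj) (t := tj) jX hu₃
  let α' := pullCycle (hasShift_open (κ (s j) S) S.δY') hSYj.2.2 α
  have hα'e : ∀ z, α' z = α (κ (s j) S z) := fun z =>
    pullFun_openImmersion (κ (s j) S) (deltaCompat_open _ _) ⇑α z
  have hα' : α' ∈ Cyc.Zk sj.Y' sj.δY' k := pullCycle_mem _ hSYj.2.2 hα (add_zero k).symm
  let β' := pullCycle (hasShift_open (κ' (s j) S) S.δX') hSXj.2.2 β
  have hβ'e : ∀ z, β' z = β (κ' (s j) S z) := fun z =>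
    pullFun_openImmersion (κ' (s j) S) (deltaCompat_open _ _) ⇑β z
  have hβ' : β' ∈ Cyc.Zk sj.X' sj.δX' (k - p) := pullCycle_mem _ hSXj.2.2 hβ (add_zero _).symm
  obtain ⟨βj, hβj, e1, e2⟩ := (d j).gysin sj tj iY jX hu₁ hu₂ hu₃ Lj hLj σj hσj τj hτj k α' hα'
  have hββ : ChowOps.cl β' hβ' = ChowOps.cl βj hβj := by
    rw [← e1, ← restr_cl (κ (s j) S) hSY hα hα'e hα', ← restr_cl (κ' (s j) S) hSX hβ hβ'e hβ', hb]
    exact op_spec hX hY hdisj hcov d S k _ j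
  obtain ⟨u, hu⟩ := exists_sections hLj
  obtain ⟨u', hu'⟩ := exists_sections hNj
  let γj := GysinLib.gysinCycle hLj hSYj.2.2 iY σj α' hu
  have hγj : γj ∈ Cyc.Zk tj.Y' tj.δY' (k - 1) := GysinClass.gysinCycle_mem hLj hSYj.2.2 hdiY hα' hu
  obtain ⟨ζj, hζj, hζje, e3⟩ := e2 u hu γj (fun _ => rfl) hγj u' hu'
  have hA : restr (κ (s j) T) hTY (k - 1) (ChowOps.cl γ hγ) = ChowOps.cl γj hγj :=
    restr_gysin (sqY i w₁).flip hSY hdi hTY hL hσ hα hw hγe hγ hα'e hu (fun _ => rfl) hγj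
  rw [op_spec, hA, e3]
  -- the second level
  let Nv := (Scheme.Modules.pullback (κ' (s j) S)).obj ((Scheme.Modules.pullback S.f').obj L)
  have hNv : PicF.IsInvertible Nv := PicClLib.isInvertible_pullback _ hN₀
  obtain ⟨v, hv⟩ := exists_sections hNv
  have hτv : Cyc.IsZeroSchemeOf jX Nv (KFlatLib.pb (κ' (s j) S) (U := ⊤) τ) :=
    GysinSq.isZeroSchemeOf_pb (sqX i jj w₁ w₂).flip hN₀ hτ
  let e : (Scheme.Modules.pullback sj.f').obj Lj ≅ Nv :=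
    (Scheme.Modules.pullbackComp sj.f' (κ (s j) S)).app L ≪≫
      eqToIso (congrArg (fun φ => (Scheme.Modules.pullback φ).obj L) pullback.condition.symm) ≪≫
      ((Scheme.Modules.pullbackComp (κ' (s j) S) S.f').app L).symm
  let ζ₁ := GysinLib.gysinCycle hNv hSXj.2.2 jX (KFlatLib.pb (κ' (s j) S) (U := ⊤) τ) β' hv
  let ζ₂ := GysinLib.gysinCycle hNj hSXj.2.2 jX τj β' hu'
  have hζ₁ : ζ₁ ∈ Cyc.Zk tj.X' tj.δX' (k - p - 1) := GysinClass.gysinCycle_mem hNv hSXj.2.2 hdjX hβ' hv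
  have hζ₂ : ζ₂ ∈ Cyc.Zk tj.X' tj.δX' (k - p - 1) := GysinClass.gysinCycle_mem hNj hSXj.2.2 hdjX hβ' hu'
  have hB : ChowOps.cl ζ₁ hζ₁ = ChowOps.cl ζ₂ hζ₂ :=
    gysin_eq sqJ hSXj hLj hσj hdjX hβ' hNv e hτv hv (fun _ => rfl) hζ₁ hu' (fun _ => rfl) hζ₂
  let G := ChowDesc.lift (GysinClass.gysinHom hNj hSXj.2.2 jX τj hdjX (k - p) hu')
    fun a ha => GysinClass.gysinHom_eq_zero hNj hSXj.2.2 hτj hdjX hu' a ha
  have hζje' : ζj = GysinLib.gysinCycle hNj hSXj.2.2 jX τj βj hu' := DFunLike.ext _ _ hζje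
  have hC : ChowOps.cl ζ₂ hζ₂ = ChowOps.cl (GysinLib.gysinCycle hNj hSXj.2.2 jX τj βj hu')
      (GysinClass.gysinCycle_mem hNj hSXj.2.2 hdjX hβj hu') := congrArg G hββ
  have hk : k - 1 - p = k - p - 1 := by ring
  have hζ₀ : ζ ∈ Cyc.Zk T.X' T.δX' (k - p - 1) := GysinClass.gysinCycle_mem hN₀ hSX.2.2 hdj hβ hw'
  have hD : restr (κ' (s j) T) hTX (k - p - 1) (ChowOps.cl ζ hζ₀) = ChowOps.cl ζ₁ hζ₁ :=
    restr_gysin (sqX i jj w₁ w₂).flip hSX hdj hTX hN₀ hτ hβ hw' (fun _ => rfl) hζ₀ hβ'e hv (fun _ => rfl) hζ₁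
  have hζje₂ : ζj ∈ Cyc.Zk tj.X' tj.δX' (k - p - 1) := hk ▸ hζj
  have hfin : restr (κ' (s j) T) hTX (k - p - 1) (ChowOps.cl ζ hζ₀) = ChowOps.cl ζj hζje₂ := by
    rw [hD, hB, hC]
    exact Bivar.cl_congr hζje'.symm _ _
  clear_value ζ
  clear e3
  revert hζj hζ'
  rw [hk]
  intros
  exact hfin.symm

end Groth.Agent.BivGlue
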