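import Groth.Agent.BivGlue.Gysin

/-! Bivariant classes over a clopen decomposition of the base. -/

set_option autoImplicit false
set_option linter.style.haveILetI false
set_option backward.isDefEq.respectTransparency false
set_option backward.isDefEq.respectTransparency.types false

universe u

open AlgebraicGeometry CategoryTheory Limits
open Groth.Agent Groth.Agent.H23 Groth.Agent.H23.FlatShift Groth.Agent.H23.FlatClass Groth.Agent.BivVan

namespace Groth.Agent.BivGlue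

variable {X Y : Scheme.{u}} {f : X ⟶ Y} {δX : X → ℤ} {δY : Y → ℤ} {p : ℤ}

/-- A class commutes with restriction to an open piece. -/
theorem cl_restr (c : Bivar.Cl p f δX δY) (hX : Cyc.IsSetup X δX) (hY : Cyc.IsSetup Y δY)
    (S : Bivar.Sq f δX δY) {V' U' : Scheme.{u}} (a : V' ⟶ S.Y') [IsOpenImmersion a] (a' : U' ⟶ S.X')
    [IsOpenImmersion a'] (g : V' ⟶ Y) (f' : U' ⟶ V') (g' : U' ⟶ X) (hp : IsPullback f' g' g f)
    (hl : LocallyOfFiniteType g) (cY : Cyc.DeltaCompat g (fun z => S.δY' (a z)) δY)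
    (cX : Cyc.DeltaCompat g' (fun z => S.δX' (a' z)) δX)
    (w₁ : a ≫ S.g = g) (w₂ : a' ≫ S.f' = f' ≫ a) (w₃ : a' ≫ S.g' = g') (k : ℤ)
    (x : ChowOps.CH S.Y' S.δY' k) :
    restr a' (isSetup_X' hX S) (k - p) (c.op S k x) =
      c.op ⟨V', U', g, f', g', hp, hl, fun z => S.δY' (a z), fun z => S.δX' (a' z), cY, cX⟩ k
        (restr a (isSetup_Y' hY S) k x) := by
  let U : Bivar.Sq f δX δY :=
    ⟨V', U', g, f', g', hp, hl, fun z => S.δY' (a z), fun z => S.δX' (a' z), cY, cX⟩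
  obtain ⟨α, hα, rfl⟩ := Bivar.exists_rep x
  obtain ⟨β, hβ, e1, hP⟩ := c.pull S U a a' 0 (hasRelDim_openImmersion a) (hasRelDim_openImmersion a') w₁ w₂ w₃
    k α hα
  have aux : ∀ m : ℤ, m = k + ((0 : ℕ) : ℤ) → ∀ (α₁ : AlgebraicCycle U.Y' ℤ),
      ⇑α₁ = Cyc.pullFun a U.δY' S.δY' ((0 : ℕ) : ℤ) ⇑α → ∀ (hα₁ : α₁ ∈ Cyc.Zk U.Y' U.δY' m),
      ∃ (β₁ : AlgebraicCycle U.X' ℤ) (hβ₁ : β₁ ∈ Cyc.Zk U.X' U.δX' (m - p)),
        ⇑β₁ = Cyc.pullFun a' U.δX' S.δX' ((0 : ℕ) : ℤ) ⇑β ∧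
          c.op U m (ChowOps.cl α₁ hα₁) = ChowOps.cl β₁ hβ₁ := by
    rintro m rfl
    exact hP
  have hsY := isSetup_open a (isSetup_Y' hY S)
  haveI := hsY.1
  haveI := (isSetup_Y' hY S).1
  let α₁ := pullCycle (hasShift_open a S.δY') hsY.2.2 α
  have hα₁ : α₁ ∈ Cyc.Zk U.Y' U.δY' k := pullCycle_mem _ hsY.2.2 hα (add_zero k).symm
  obtain ⟨β₁, hβ₁, hb, e2⟩ := aux k (by simp) α₁ rfl hα₁
  rw [restr_cl a (isSetup_Y' hY S) hα (β := α₁) (fun z => pullFun_openImmersion a (deltaCompat_open a _) ⇑α z) hα₁,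
    e1, e2]
  exact restr_cl a' (isSetup_X' hX S) hβ (fun z => (congrFun hb z).trans
    (pullFun_openImmersion a' (deltaCompat_open a' _) ⇑β z)) hβ₁

theorem isEmpty_piece (b T : Bivar.Sq f δX δY) [IsOpenImmersion b.g] {R : Set Y} (hT : ∀ y, T.g y ∈ R)
    (h : Disjoint (Set.range b.g.base) R) : IsEmpty ↥(pullback T.f' (κ b T)) := ⟨fun z => by
  refine h.ne_of_mem (a := T.g (κ b T (pullback.snd T.f' (κ b T) z))) ⟨pullback.snd T.g b.g (pullback.snd T.f' (κ b T) z), ?_⟩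
    (hT _) rfl
  exact (congrArg (fun φ : pullback T.g b.g ⟶ Y => φ (pullback.snd T.f' (κ b T) z)) pullback.condition).symm⟩

variable {J : Type u} (s : J → Bivar.Sq f δX δY) [∀ j, IsOpenImmersion (s j).g]
  (hX : Cyc.IsSetup X δX) (hY : Cyc.IsSetup Y δY)
  (hdisj : ∀ j j' : J, j ≠ j' → Disjoint (Set.range (s j).g.base) (Set.range (s j').g.base))
  (hcov : ∀ y : Y, ∃ j, y ∈ Set.range (s j).g.base)

theorem res_spec (c : Bivar.Cl p f δX δY) (T : Bivar.Sq f δX δY) (j : J) (k : ℤ)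
    (x : ChowOps.CH T.Y' T.δY' k) :
    restr (κ' (s j) T) (isSetup_X' hX T) (k - p) (c.op T k x) =
      (c.res (s j)).op (pc (s j) T) k (restr (κ (s j) T) (isSetup_Y' hY T) k x) :=
  cl_restr c hX hY T (κ (s j) T) (κ' (s j) T) _ _ _ ((s j).paste (pc (s j) T)).isPullback
    ((s j).paste (pc (s j) T)).lft ((s j).paste (pc (s j) T)).compatY ((s j).paste (pc (s j) T)).compatX
    pullback.condition pullback.condition (pg'_g' (s j) T).symm k x

include hX hY hdisj hcov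

theorem injective : Function.Injective (fun c : Bivar.Cl p f δX δY => fun j : J => c.res (s j)) := by
  intro c₁ c₂ h
  refine Bivar.Cl.ext (funext fun T => funext fun k => AddMonoidHom.ext fun x => ?_)
  refine ext_restr hX hdisj hcov T (k - p) _ _ fun j => ?_
  rw [res_spec s hX hY c₁, res_spec s hX hY c₂, show c₁.res (s j) = c₂.res (s j) from congrFun h j]

/-- The glued class. -/
noncomputable def glue (d : ∀ j, Bivar.Cl p (s j).f' (s j).δX' (s j).δY') : Bivar.Cl p f δX δY where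
  op T k := op hX hY hdisj hcov d T k
  push S T h _ h' _ w₁ w₂ w₃ k := push hX hY hdisj hcov d S h h' w₁ w₂ w₃ k
  pull S T h _ h' _ r hr hr' w₁ w₂ w₃ k := pull hX hY hdisj hcov d S h h' r hr hr' w₁ w₂ w₃ k
  gysin S T i _ j _ w₁ w₂ w₃ L hL σ hσ τ hτ k := gysin hX hY hdisj hcov d S i j w₁ w₂ w₃ L hL σ hσ τ hτ k

theorem glue_res (d : ∀ j, Bivar.Cl p (s j).f' (s j).δX' (s j).δY') (j : J) :
    (glue s hX hY hdisj hcov d).res (s j) = d j := by
  refine Bivar.Cl.ext (funext fun t => funext fun k => AddMonoidHom.ext fun x => ?_)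
  refine ext_restr hX hdisj hcov ((s j).paste t) (k - p) _ _ fun i => ?_
  show restr _ _ (k - p) (op hX hY hdisj hcov d ((s j).paste t) k x) = _
  rw [op_spec]
  by_cases hij : i = j
  · subst hij
    have hw₁ : κ (s i) ((s i).paste t) ≫ t.g = (pc (s i) ((s i).paste t)).g := by
      rw [← cancel_mono (s i).g, Category.assoc]
      exact pullback.condition
    have hw₃ : κ' (s i) ((s i).paste t) ≫ t.g' = (pc (s i) ((s i).paste t)).g' := by
      rw [← cancel_mono (s i).g', Category.assoc]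
      exact (pg'_g' (s i) ((s i).paste t)).symm
    exact (cl_restr (d i) (isSetup_X' hX (s i)) (isSetup_Y' hY (s i)) t (κ (s i) ((s i).paste t))
      (κ' (s i) ((s i).paste t)) _ _ _ (pc (s i) ((s i).paste t)).isPullback (pc (s i) ((s i).paste t)).lft
      (pc (s i) ((s i).paste t)).compatY (pc (s i) ((s i).paste t)).compatX hw₁ pullback.condition hw₃ k x).symm
  · haveI : IsEmpty ↥(pc (s i) ((s j).paste t)).X' :=
      isEmpty_piece (s i) ((s j).paste t) (R := Set.range (s j).g.base) (fun y => ⟨t.g y, rfl⟩) (hdisj i j hij)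
    have hz : ∀ y : ChowOps.CH (pc (s i) ((s j).paste t)).X' (pc (s i) ((s j).paste t)).δX' (k - p), y = 0 :=
      fun y => by
        obtain ⟨γ, hγ, rfl⟩ := Bivar.exists_rep y
        rw [Bivar.cl_congr (DFunLike.ext γ 0 fun z => isEmptyElim z) hγ (ChowOps.zk _ _ _).zero_mem, Bivar.cl_zero]
    exact (hz _).trans (hz _).symm

theorem bijective : Function.Bijective (fun c : Bivar.Cl p f δX δY => fun j : J => c.res (s j)) :=
  ⟨injective s hX hY hdisj hcov, fun d => ⟨glue s hX hY hdisj hcov d, funext (glue_res s hX hY hdisj hcov d)⟩⟩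

end Groth.Agent.BivGlue
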