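import Groth.Agent.BivGlue.Piece
import Groth.Agent.H23.GysinClass

/-! Gluing of bivariant classes over a clopen decomposition of the base. -/

set_option autoImplicit false
set_option linter.style.haveILetI false
set_option backward.isDefEq.respectTransparency false
set_option backward.isDefEq.respectTransparency.types false

universe u

open AlgebraicGeometry CategoryTheory Limits
open Groth.Agent Groth.Agent.H23 Groth.Agent.H23.FlatShift Groth.Agent.H23.FlatClass Groth.Agent.BivVan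

namespace Groth.Agent.BivGlue

variable {X Y : Scheme.{u}} {f : X ⟶ Y} {δX : X → ℤ} {δY : Y → ℤ} {p : ℤ} {J : Type u}
  {s : J → Bivar.Sq f δX δY} [∀ j, IsOpenImmersion (s j).g]
  (hX : Cyc.IsSetup X δX) (hY : Cyc.IsSetup Y δY)
  (hdisj : ∀ j j' : J, j ≠ j' → Disjoint (Set.range (s j).g.base) (Set.range (s j').g.base))
  (hcov : ∀ y : Y, ∃ j, y ∈ Set.range (s j).g.base)
  (d : ∀ j, Bivar.Cl p (s j).f' (s j).δX' (s j).δY') (T : Bivar.Sq f δX δY)

include hdisj in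
theorem disj_κ' (j j' : J) (h : j ≠ j') :
    Disjoint (Set.range (κ' (s j) T)) (Set.range (κ' (s j') T)) := by
  rw [Scheme.Pullback.range_fst, Scheme.Pullback.range_fst, Scheme.Pullback.range_fst, Scheme.Pullback.range_fst]
  exact ((hdisj j j' h).preimage _).preimage _

include hcov in
theorem cov_κ' (x : T.X') : ∃ j, x ∈ Set.range (κ' (s j) T) := by
  obtain ⟨j, hj⟩ := hcov (T.g (T.f' x))
  exact ⟨j, by rw [Scheme.Pullback.range_fst, Scheme.Pullback.range_fst]; exact hj⟩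

/-- The glued operation. -/
noncomputable def op (k : ℤ) : ChowOps.CH T.Y' T.δY' k →+ ChowOps.CH T.X' T.δX' (k - p) :=
  (restrAll (fun j => κ' (s j) T) (isSetup_X' hX T) (disj_κ' hdisj T) (cov_κ' hcov T) (k - p)).symm.toAddMonoidHom.comp
    (AddMonoidHom.mk' (fun x j => (d j).op (pc (s j) T) k (restr (κ (s j) T) (isSetup_Y' hY T) k x))
      fun a b => funext fun j => by
        simp only [map_add]
        rfl)

theorem op_spec (k : ℤ) (x : ChowOps.CH T.Y' T.δY' k) (j : J) :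
    restr (κ' (s j) T) (isSetup_X' hX T) (k - p) (op hX hY hdisj hcov d T k x) =
      (d j).op (pc (s j) T) k (restr (κ (s j) T) (isSetup_Y' hY T) k x) :=
  congrFun ((restrAll (fun j => κ' (s j) T) (isSetup_X' hX T) (disj_κ' hdisj T) (cov_κ' hcov T)
    (k - p)).apply_symm_apply _) j

include hdisj hcov in
theorem ext_restr (k : ℤ) (a b : ChowOps.CH T.X' T.δX' k)
    (h : ∀ j, restr (κ' (s j) T) (isSetup_X' hX T) k a = restr (κ' (s j) T) (isSetup_X' hX T) k b) : a = b :=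
  (restrAll (fun j => κ' (s j) T) (isSetup_X' hX T) (disj_κ' hdisj T) (cov_κ' hcov T) k).injective (funext h)

variable {T}

theorem push (S : Bivar.Sq f δX δY) (h : T.Y' ⟶ S.Y') [IsProper h] (h' : T.X' ⟶ S.X') [IsProper h']
    (w₁ : h ≫ S.g = T.g) (w₂ : h' ≫ S.f' = T.f' ≫ h) (w₃ : h' ≫ S.g' = T.g') (k : ℤ) :
    Bivar.PushOK T.δY' T.δX' S.δY' S.δX' h h' (op hX hY hdisj hcov d T k) (op hX hY hdisj hcov d S k) := by
  intro α hα
  obtain ⟨β, hβ, hb⟩ := Bivar.exists_rep (op hX hY hdisj hcov d T k (ChowOps.cl α hα))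
  have hδY := deltaCompat_homY h w₁
  have hδX := deltaCompat_homX h' w₃
  refine ⟨β, hβ, hb.symm, ?_⟩
  rw [← PushClass.mapCH_cl h (isSetup_Y' hY T) (isSetup_Y' hY S) hδY hα,
    ← PushClass.mapCH_cl h' (isSetup_X' hX T) (isSetup_X' hX S) hδX hβ, hb]
  refine ext_restr hX hdisj hcov S (k - p) _ _ fun j => ?_
  haveI : IsProper (mY (b := s j) h w₁) := MorphismProperty.of_isPullback (sqY h w₁) ‹_›
  haveI : IsProper (mX (b := s j) h h' w₁ w₂) := MorphismProperty.of_isPullback (sqX h h' w₁ w₂) ‹_›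
  have hw₁ := mY_g (b := s j) h w₁
  have hw₃ := mX_g (b := s j) h h' w₁ w₂ w₃
  have hδYj := deltaCompat_homY (s := pc (s j) S) (t := pc (s j) T) (mY h w₁) hw₁
  have hδXj := deltaCompat_homX (s := pc (s j) S) (t := pc (s j) T) (mX h h' w₁ w₂) hw₃
  rw [op_spec, restr_mapCH (κ (s j) T) (κ (s j) S) (sqY h w₁) _ _ _ hδYj,
    restr_mapCH (κ' (s j) T) (κ' (s j) S) (sqX h h' w₁ w₂) _ _ _ hδXj, op_spec]
  obtain ⟨α', hα', ha⟩ := Bivar.exists_rep (restr (κ (s j) T) (isSetup_Y' hY T) k (ChowOps.cl α hα))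
  obtain ⟨γ, hγ, e1, e2⟩ := (d j).push (pc (s j) S) (pc (s j) T) (mY h w₁) (mX h h' w₁ w₂) hw₁
    (mX_f h h' w₁ w₂) hw₃ k α' hα'
  rw [← ha, PushClass.mapCH_cl, e1, PushClass.mapCH_cl]
  exact e2

theorem pull (S : Bivar.Sq f δX δY) (h : T.Y' ⟶ S.Y') [Flat h] (h' : T.X' ⟶ S.X') [Flat h'] (r : ℕ)
    (hr : Cyc.HasRelDim h r) (hr' : Cyc.HasRelDim h' r)
    (w₁ : h ≫ S.g = T.g) (w₂ : h' ≫ S.f' = T.f' ≫ h) (w₃ : h' ≫ S.g' = T.g') (k : ℤ) :
    Bivar.PullOK S.δY' S.δX' T.δY' T.δX' h h' (r : ℤ) (op hX hY hdisj hcov d S k)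
      (op hX hY hdisj hcov d T (k + r)) := by
  intro α hα
  obtain ⟨β, hβ, hb⟩ := Bivar.exists_rep (op hX hY hdisj hcov d S k (ChowOps.cl α hα))
  have hSY := isSetup_Y' hY S
  have hTY := isSetup_Y' hY T
  have hSX := isSetup_X' hX S
  have hTX := isSetup_X' hX T
  haveI := hTX.1
  haveI := hSX.1
  haveI := hSY.1
  haveI := hTY.1
  haveI := S.lft
  haveI := lft_g' S
  haveI : LocallyOfFiniteType (h ≫ S.g) := w₁ ▸ T.lft
  haveI : LocallyOfFiniteType h := locallyOfFiniteType_of_comp h S.g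
  haveI : LocallyOfFiniteType (h' ≫ S.g') := w₃ ▸ lft_g' T
  haveI : LocallyOfFiniteType h' := locallyOfFiniteType_of_comp h' S.g'
  have hh := hasShift_of_hasRelDim h hr (deltaCompat_homY h w₁)
  have hh' := hasShift_of_hasRelDim h' hr' (deltaCompat_homX h' w₃)
  have hl : k + (r : ℤ) - p = k - p + r := by ring
  refine ⟨β, hβ, hb.symm, fun α₁ he hα₁ => ?_⟩
  refine ⟨pullCycle hh' hTX.2.2 β, pullCycle_mem hh' hTX.2.2 hβ hl, rfl, ?_⟩
  rw [← pullCH_cl hh' hSX hTX hl hβ rfl (pullCycle_mem hh' hTX.2.2 hβ hl),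
    ← pullCH_cl hh hSY hTY rfl hα he hα₁, hb]
  refine ext_restr hX hdisj hcov T (k + r - p) _ _ fun j => ?_
  haveI : Flat (mY (b := s j) h w₁) := MorphismProperty.of_isPullback (sqY h w₁) ‹_›
  haveI : Flat (mX (b := s j) h h' w₁ w₂) := MorphismProperty.of_isPullback (sqX h h' w₁ w₂) ‹_›
  haveI : LocallyOfFiniteType (mY (b := s j) h w₁) := MorphismProperty.of_isPullback (sqY h w₁) ‹_›
  haveI : LocallyOfFiniteType (mX (b := s j) h h' w₁ w₂) := MorphismProperty.of_isPullback (sqX h h' w₁ w₂) ‹_›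
  have hrY : Cyc.HasRelDim (mY (b := s j) h w₁) r := FibDim.hasRelDim_baseChange (sqY h w₁) hr
  have hrX : Cyc.HasRelDim (mX (b := s j) h h' w₁ w₂) r := FibDim.hasRelDim_baseChange (sqX h h' w₁ w₂) hr'
  have hw₁ := mY_g (b := s j) h w₁
  have hw₃ := mX_g (b := s j) h h' w₁ w₂ w₃
  have hSYj := isSetup_open (κ (s j) S) hSY
  have hTYj := isSetup_open (κ (s j) T) hTY
  have hSXj := isSetup_open (κ' (s j) S) hSX
  have hTXj := isSetup_open (κ' (s j) T) hTX
  have hhY := hasShift_of_hasRelDim (mY h w₁) hrY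
    (deltaCompat_homY (s := pc (s j) S) (t := pc (s j) T) (mY h w₁) hw₁)
  have hhX := hasShift_of_hasRelDim (mX h h' w₁ w₂) hrX
    (deltaCompat_homX (s := pc (s j) S) (t := pc (s j) T) (mX h h' w₁ w₂) hw₃)
  haveI := hSYj.1
  haveI := hTYj.1
  haveI := hSXj.1
  haveI := hTXj.1
  rw [op_spec]
  unfold restr
  rw [pullCH_comm (mY_κ h w₁).symm (hasShift_open (κ (s j) T) T.δY') hh hhY (hasShift_open (κ (s j) S) S.δY')
      (by ring) hTYj hTY hSYj hSY rfl (add_zero _).symm (add_zero _).symm rfl,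
    pullCH_comm (mX_κ h h' w₁ w₂).symm (hasShift_open (κ' (s j) T) T.δX') hh' hhX (hasShift_open (κ' (s j) S) S.δX')
      (by ring) hTXj hTX hSXj hSX hl (add_zero _).symm (add_zero _).symm hl]
  have hspec := op_spec hX hY hdisj hcov d S k (ChowOps.cl α hα) j
  unfold restr at hspec
  rw [hspec]
  obtain ⟨α', hα', ha⟩ := Bivar.exists_rep
    (pullCH (hasShift_open (κ (s j) S) S.δY') hSY hSYj k k (add_zero k).symm (ChowOps.cl α hα))
  rw [← ha]
  obtain ⟨γ, hγ, e1, e2⟩ := (d j).pull (pc (s j) S) (pc (s j) T) (mY h w₁) (mX h h' w₁ w₂) r hrY hrX hw₁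
    (mX_f h h' w₁ w₂) hw₃ k α' hα'
  have hm := pullCycle_mem hhY hTYj.2.2 hα' rfl
  obtain ⟨γ₁, hγ₁, hg, e3⟩ := e2 (pullCycle hhY hTYj.2.2 α') rfl hm
  rw [pullCH_cl hhY hSYj hTYj rfl hα' rfl hm, e1, e3, pullCH_cl hhX hSXj hTXj hl hγ hg hγ₁]

end Groth.Agent.BivGlue
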