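import Groth.Agent.BivGlue.Chow

/-! The pieces of a test square over a clopen decomposition of the base. -/

set_option autoImplicit false
set_option linter.style.haveILetI false
set_option backward.isDefEq.respectTransparency false
set_option backward.isDefEq.respectTransparency.types false

universe u

open AlgebraicGeometry CategoryTheory Limits
open Groth.Agent.H23 Groth.Agent.H23.FlatShift Groth.Agent.H23.FlatClass Groth.Agent.BivVan

namespace Groth.Agent.BivGlue

variable {X Y : Scheme.{u}} {f : X ⟶ Y} {δX : X → ℤ} {δY : Y → ℤ}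
  (b : Bivar.Sq f δX δY) [IsOpenImmersion b.g] (T : Bivar.Sq f δX δY)

instance isOpenImmersion_g' : IsOpenImmersion b.g' :=
  MorphismProperty.of_isPullback b.isPullback ‹_›

/-- The open piece of the test scheme. -/
noncomputable abbrev κ : pullback T.g b.g ⟶ T.Y' := pullback.fst T.g b.g

/-- The open piece of the fibre product. -/
noncomputable abbrev κ' : pullback T.f' (κ b T) ⟶ T.X' := pullback.fst T.f' (κ b T)

/-- The map to the piece of `X`. -/
noncomputable abbrev pg' : pullback T.f' (κ b T) ⟶ b.X' :=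
  b.isPullback.lift (pullback.snd T.f' (κ b T) ≫ pullback.snd T.g b.g) (κ' b T ≫ T.g') (by
    rw [Category.assoc, Category.assoc, ← pullback.condition (f := T.g) (g := b.g), ← T.isPullback.w,
      ← pullback.condition_assoc])

theorem pg'_g' : pg' b T ≫ b.g' = κ' b T ≫ T.g' := b.isPullback.lift_snd _ _ _

theorem pg'_f' : pg' b T ≫ b.f' = pullback.snd T.f' (κ b T) ≫ pullback.snd T.g b.g :=
  b.isPullback.lift_fst _ _ _

theorem piece_isPullback :
    IsPullback (pullback.snd T.f' (κ b T)) (pg' b T) (pullback.snd T.g b.g) b.f' := by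
  refine IsPullback.of_bot ?_ (pg'_f' b T).symm b.isPullback
  rw [pg'_g', ← pullback.condition (f := T.g) (g := b.g)]
  exact (IsPullback.of_hasPullback T.f' (κ b T)).flip.paste_vert T.isPullback

/-- The piece, as a test square over the base change. -/
noncomputable abbrev pc : Bivar.Sq b.f' b.δX' b.δY' where
  Y' := pullback T.g b.g
  X' := pullback T.f' (κ b T)
  g := pullback.snd T.g b.g
  f' := pullback.snd T.f' (κ b T)
  g' := pg' b T
  isPullback := piece_isPullback b T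
  lft := haveI := T.lft; inferInstance
  δY' := fun z => T.δY' (κ b T z)
  δX' := fun z => T.δX' (κ' b T z)
  compatY := by
    haveI := T.lft
    refine deltaCompat_of_comp _ b.g ?_ b.compatY
    rw [← pullback.condition]
    exact Bivar.deltaCompat_comp _ T.g _ _ _ (deltaCompat_open _ _) T.compatY
  compatX := by
    haveI := FlatClass.lft_g' T
    haveI : LocallyOfFiniteType (pg' b T ≫ b.g') := by rw [pg'_g']; infer_instance
    haveI : LocallyOfFiniteType (pg' b T) := locallyOfFiniteType_of_comp _ b.g'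
    refine deltaCompat_of_comp _ b.g' ?_ b.compatX
    rw [pg'_g']
    exact Bivar.deltaCompat_comp _ T.g' _ _ _ (deltaCompat_open _ _) T.compatX

variable {b}
variable {S : Bivar.Sq f δX δY} {T}

/-- The map of pieces induced by a map of test schemes. -/
noncomputable abbrev mY (h : T.Y' ⟶ S.Y') (w₁ : h ≫ S.g = T.g) : (pc b T).Y' ⟶ (pc b S).Y' :=
  pullback.map _ _ _ _ h (𝟙 _) (𝟙 _) (by rw [Category.comp_id, w₁]) (by rw [Category.comp_id, Category.id_comp])

theorem mY_κ (h : T.Y' ⟶ S.Y') (w₁ : h ≫ S.g = T.g) : mY (b := b) h w₁ ≫ κ b S = κ b T ≫ h :=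
  pullback.lift_fst _ _ _

theorem mY_g (h : T.Y' ⟶ S.Y') (w₁ : h ≫ S.g = T.g) : mY (b := b) h w₁ ≫ (pc b S).g = (pc b T).g :=
  (pullback.lift_snd _ _ _).trans (Category.comp_id _)

/-- The map of pieces induced by a map of fibre products. -/
noncomputable abbrev mX (h : T.Y' ⟶ S.Y') (h' : T.X' ⟶ S.X') (w₁ : h ≫ S.g = T.g)
    (w₂ : h' ≫ S.f' = T.f' ≫ h) : (pc b T).X' ⟶ (pc b S).X' :=
  pullback.map _ _ _ _ h' (mY h w₁) h w₂.symm (mY_κ h w₁).symm

theorem mX_κ (h : T.Y' ⟶ S.Y') (h' : T.X' ⟶ S.X') (w₁ : h ≫ S.g = T.g) (w₂ : h' ≫ S.f' = T.f' ≫ h) :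
    mX (b := b) h h' w₁ w₂ ≫ κ' b S = κ' b T ≫ h' :=
  pullback.lift_fst _ _ _

theorem mX_f (h : T.Y' ⟶ S.Y') (h' : T.X' ⟶ S.X') (w₁ : h ≫ S.g = T.g) (w₂ : h' ≫ S.f' = T.f' ≫ h) :
    mX (b := b) h h' w₁ w₂ ≫ (pc b S).f' = (pc b T).f' ≫ mY h w₁ :=
  pullback.lift_snd _ _ _

theorem mX_g (h : T.Y' ⟶ S.Y') (h' : T.X' ⟶ S.X') (w₁ : h ≫ S.g = T.g) (w₂ : h' ≫ S.f' = T.f' ≫ h)
    (w₃ : h' ≫ S.g' = T.g') : mX (b := b) h h' w₁ w₂ ≫ (pc b S).g' = (pc b T).g' := by
  refine b.isPullback.hom_ext ?_ ?_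
  · rw [Category.assoc, pg'_f', pg'_f', ← Category.assoc, mX_f, Category.assoc, mY_g]
  · rw [Category.assoc, pg'_g', pg'_g', ← Category.assoc, mX_κ, Category.assoc, w₃]

theorem sqY (h : T.Y' ⟶ S.Y') (w₁ : h ≫ S.g = T.g) :
    IsPullback (κ b T) (mY h w₁) h (κ b S) := by
  refine IsPullback.of_bot ?_ (mY_κ h w₁).symm (IsPullback.of_hasPullback S.g b.g)
  rw [w₁, mY_g]
  exact IsPullback.of_hasPullback T.g b.g

theorem sqX (h : T.Y' ⟶ S.Y') (h' : T.X' ⟶ S.X') (w₁ : h ≫ S.g = T.g) (w₂ : h' ≫ S.f' = T.f' ≫ h) :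
    IsPullback (κ' b T) (mX h h' w₁ w₂) h' (κ' b S) := by
  refine IsPullback.of_bot ?_ (mX_κ h h' w₁ w₂).symm (IsPullback.of_hasPullback S.f' (κ b S))
  rw [w₂, mX_f]
  exact (IsPullback.of_hasPullback T.f' (κ b T)).paste_vert (sqY h w₁)

end Groth.Agent.BivGlue
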